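import Mathlib

/-!
Fixed points of a Sylow `p`-subgroup in a transitive group generated by `p`-elements: if the degree is
`n > 1` then there are at most `n (p-1)/(2p-1)` of them.

The proof is an induction on the degree together with a covering lemma: if the defect
`(p-1)|X| - (2p-1)|fix X|` plus `p|S|` is smaller than `p^2`, then a translate of `S` is fixed pointwise by
the Sylow subgroup. A cycle of length `p` can not be covered, which settles the primitive case.
-/

set_option autoImplicit false

namespace Cfsg.Agent.Lib.SylowFix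

open MulAction
open scoped Pointwise

universe u

open scoped Classical in
/-- The points of `X` fixed by `P`. -/
noncomputable def fixSet {G Ω : Type*} [Group G] [MulAction G Ω] (P : Subgroup G) (X : Finset Ω) :
    Finset Ω :=
  X.filter (fun x => ∀ g ∈ P, g • x = x)

/-- The defect of a set of points. -/
noncomputable def defect {G Ω : Type*} [Group G] [MulAction G Ω] (p : ℕ) (P : Subgroup G) (X : Finset Ω) : ℤ :=
  ((p : ℤ) - 1) * X.card - (2 * (p : ℤ) - 1) * (fixSet P X).card

/-- `X` is invariant under the group. -/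
def Inv (G : Type*) {Ω : Type*} [Group G] [MulAction G Ω] (X : Finset Ω) : Prop :=
  ∀ g : G, ∀ x ∈ X, g • x ∈ X

/-- No point of `X` is fixed by the group. -/
def NoFix (G : Type*) {Ω : Type*} [Group G] [MulAction G Ω] (X : Finset Ω) : Prop :=
  ∀ x ∈ X, ∃ g : G, g • x ≠ x

/-- The group is generated by its elements of `p`-power order. -/
def Gen (p : ℕ) (G : Type*) [Group G] : Prop :=
  Subgroup.closure {g : G | ∃ k : ℕ, orderOf g = p ^ k} = ⊤

/-- The subgroup generated by the `p`-elements of `H`. -/
def pcl {G : Type*} [Group G] (p : ℕ) (H : Subgroup G) : Subgroup G :=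
  Subgroup.closure {g : G | g ∈ H ∧ ∃ k : ℕ, orderOf g = p ^ k}

section Group

variable {p : ℕ} [Fact p.Prime] {G : Type*} [Group G]

omit [Fact p.Prime] in
theorem pcl_le (H : Subgroup G) : pcl p H ≤ H :=
  (Subgroup.closure_le H).mpr fun _ hg => hg.1

omit [Fact p.Prime] in
theorem pcl_le_pcl {H H' : Subgroup G} (h : pcl p H ≤ H') : pcl p H ≤ pcl p H' := by
  refine (Subgroup.closure_le _).mpr fun g hg => Subgroup.subset_closure ⟨h ?_, hg.2⟩
  exact Subgroup.subset_closure hg

omit [Fact p.Prime] in
theorem gen_pcl (H : Subgroup G) : Gen p ↥(pcl p H) := by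
  refine top_le_iff.mp ?_
  calc (⊤ : Subgroup ↥(pcl p H))
      = Subgroup.closure (((↑) : ↥(pcl p H) → G) ⁻¹' {g : G | g ∈ H ∧ ∃ k : ℕ, orderOf g = p ^ k}) :=
        (Subgroup.closure_closure_coe_preimage).symm
    _ ≤ _ := Subgroup.closure_mono fun g hg => by
        obtain ⟨-, k, hk⟩ := hg
        exact ⟨k, by rw [← hk]; exact (orderOf_injective (pcl p H).subtype Subtype.coe_injective g).symm⟩

theorem sylow_le_pcl {P : Sylow p G} {H : Subgroup G} (h : (P : Subgroup G) ≤ H) :
    (P : Subgroup G) ≤ pcl p H := by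
  intro g hg
  refine Subgroup.subset_closure ⟨h hg, ?_⟩
  obtain ⟨k, hk⟩ := (IsPGroup.iff_orderOf.mp P.isPGroup') ⟨g, hg⟩
  exact ⟨k, by rwa [Subgroup.orderOf_mk] at hk⟩

omit [Fact p.Prime] in
theorem pcl_map (e : G ≃* G) (H : Subgroup G) :
    pcl p (H.map e.toMonoidHom) = (pcl p H).map e.toMonoidHom := by
  unfold pcl
  rw [MonoidHom.map_closure]
  congr 1
  ext g
  constructor
  · rintro ⟨hg, k, hk⟩
    obtain ⟨x, hx, rfl⟩ := Subgroup.mem_map.mp hg
    refine ⟨x, ⟨hx, k, ?_⟩, rfl⟩
    rw [← hk]; exact (orderOf_injective e.toMonoidHom e.injective x).symm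
  · rintro ⟨x, ⟨hx, k, hk⟩, rfl⟩
    exact ⟨Subgroup.mem_map_of_mem _ hx, k,
      by rw [orderOf_injective e.toMonoidHom e.injective x, hk]⟩

omit [Fact p.Prime] in
theorem le_normalizer_pcl (H : Subgroup G) : H ≤ Subgroup.normalizer (pcl p H : Set G) := by
  intro g hg
  have e : H.map (MulAut.conj g).toMonoidHom = H := by
    ext x
    rw [Subgroup.mem_map_equiv, MulAut.conj_symm_apply]
    constructor
    · intro h
      have := H.mul_mem (H.mul_mem hg h) (H.inv_mem hg)
      simpa [mul_assoc] using this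
    · exact fun h => H.mul_mem (H.mul_mem (H.inv_mem hg) h) hg
  have e2 : (pcl p H).map (MulAut.conj g).toMonoidHom = pcl p H := by rw [← pcl_map, e]
  rw [Subgroup.mem_normalizer_iff]
  intro h
  constructor
  · intro hh
    have := Subgroup.mem_map_of_mem (MulAut.conj g).toMonoidHom hh
    rw [e2] at this
    exact this
  · intro hh
    rw [← e2, Subgroup.mem_map_equiv, MulAut.conj_symm_apply] at hh
    simpa [mul_assoc] using hh

/-- A normal subgroup containing a Sylow subgroup of a group generated by `p`-elements is everything. -/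
theorem eq_top_of_sylow_le [Finite G] (hG : Gen p G) {N : Subgroup G} [N.Normal] (P : Sylow p G)
    (h : (P : Subgroup G) ≤ N) : N = ⊤ := by
  rw [eq_top_iff, ← hG, Subgroup.closure_le]
  rintro g ⟨k, hk⟩
  have hz : IsPGroup p (Subgroup.zpowers g) := IsPGroup.of_card (n := k) (by rw [Nat.card_zpowers, hk])
  obtain ⟨Q, hQ⟩ := hz.exists_le_sylow
  obtain ⟨a, rfl⟩ := MulAction.exists_smul_eq G P Q
  have hgQ := hQ (Subgroup.mem_zpowers g)
  rw [Sylow.coe_subgroup_smul] at hgQ
  obtain ⟨x, hx, rfl⟩ := hgQ
  exact ‹N.Normal›.conj_mem x (h hx) a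

/-- Two maximal subgroups with Sylow subgroups: the smaller generated part determines the subgroup. -/
theorem eq_of_pcl_le [Finite G] (hG : Gen p G) {H1 H2 : Subgroup G} (h1 : IsCoatom H1) (h2 : IsCoatom H2)
    (P : Sylow p G) (hP : (P : Subgroup G) ≤ H1) (hle : pcl p H1 ≤ H2)
    (hcard : Nat.card ↥(pcl p H2) ≤ Nat.card ↥(pcl p H1)) : H2 = H1 := by
  by_contra hne
  have e : pcl p H1 = pcl p H2 := Subgroup.eq_of_le_of_card_ge (pcl_le_pcl hle) hcard
  have htop : H1 ⊔ H2 = ⊤ := h1.2 _ (lt_of_le_of_ne le_sup_left (fun h => by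
    have : H2 ≤ H1 := h ▸ le_sup_right
    rcases h2.le_iff.mp this with h' | h'
    · exact h1.1 h'
    · exact hne h'.symm))
  have hn : (pcl p H1).Normal := Subgroup.normalizer_eq_top_iff.mp (top_le_iff.mp (by
    rw [← htop]
    exact sup_le (le_normalizer_pcl H1) (e ▸ le_normalizer_pcl H2)))
  exact h1.1 (top_le_iff.mp ((eq_top_of_sylow_le hG P (sylow_le_pcl hP)).ge.trans (pcl_le H1)))

theorem not_normal_of_sylow_le [Finite G] (hG : Gen p G) {H : Subgroup G} (h : IsCoatom H)
    (P : Sylow p G) (hP : (P : Subgroup G) ≤ H) : ¬ H.Normal := by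
  intro hn
  exact h.1 (eq_top_of_sylow_le hG P hP)

end Group

/-- Subgroups of a group with the conjugation action. -/
@[ext]
structure Conjs (G : Type u) [Group G] : Type u where
  /-- the subgroup -/
  sub : Subgroup G

instance conjsAction (G : Type u) [Group G] : MulAction G (Conjs G) where
  smul g H := ⟨Subgroup.map (MulAut.conj g).toMonoidHom H.sub⟩
  one_smul H := Conjs.ext (by
    show Subgroup.map (MulAut.conj (1 : G)).toMonoidHom H.sub = H.sub
    rw [map_one]; exact Subgroup.map_id H.sub)
  mul_smul g h H := Conjs.ext (by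
    show Subgroup.map (MulAut.conj (g * h)).toMonoidHom H.sub =
      Subgroup.map (MulAut.conj g).toMonoidHom (Subgroup.map (MulAut.conj h).toMonoidHom H.sub)
    rw [map_mul, Subgroup.map_map]; rfl)

theorem smul_conjs_sub {G : Type u} [Group G] (g : G) (H : Conjs G) :
    (g • H).sub = Subgroup.map (MulAut.conj g).toMonoidHom H.sub := rfl

theorem stabilizer_conjs {G : Type u} [Group G] (H : Conjs G) :
    stabilizer G H = Subgroup.normalizer (H.sub : Set G) := by
  ext g
  rw [mem_stabilizer_iff, Conjs.ext_iff, smul_conjs_sub, Subgroup.mem_normalizer_iff]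
  constructor
  · intro h x
    have hx := SetLike.ext_iff.mp h (g * x * g⁻¹)
    rw [Subgroup.mem_map_equiv, MulAut.conj_symm_apply] at hx
    simpa [mul_assoc] using hx
  · intro h
    refine SetLike.ext fun x => ?_
    rw [Subgroup.mem_map_equiv, MulAut.conj_symm_apply]
    have := h (g⁻¹ * x * g)
    simpa [mul_assoc] using this

section Sets

variable {p : ℕ} [Fact p.Prime] {G Ω : Type*} [Group G] [MulAction G Ω]

theorem mem_fixSet {P : Subgroup G} {X : Finset Ω} {x : Ω} :
    x ∈ fixSet P X ↔ x ∈ X ∧ ∀ g ∈ P, g • x = x := by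
  classical
  simp [fixSet]

omit [Fact p.Prime] in
theorem defect_union [DecidableEq Ω] (P : Subgroup G) {X Y : Finset Ω} (h : Disjoint X Y) :
    defect p P (X ∪ Y) = defect p P X + defect p P Y := by
  classical
  have e : fixSet P (X ∪ Y) = fixSet P X ∪ fixSet P Y := by
    ext x; simp [mem_fixSet, or_and_right]
  have h' : Disjoint (fixSet P X) (fixSet P Y) :=
    Finset.disjoint_left.mpr fun x hx hy =>
      Finset.disjoint_left.mp h (mem_fixSet.mp hx).1 (mem_fixSet.mp hy).1
  rw [defect, defect, defect, e, Finset.card_union_of_disjoint h, Finset.card_union_of_disjoint h']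
  push_cast
  ring

omit [Fact p.Prime] in
theorem defect_empty (P : Subgroup G) : defect p P (∅ : Finset Ω) = 0 := by
  simp [defect, fixSet]

open scoped Classical in
/-- The part of `X` in the orbit of `a`. -/
noncomputable def orbitIn (G : Type*) {Ω : Type*} [Group G] [MulAction G Ω] (X : Finset Ω) (a : Ω) : Finset Ω :=
  X.filter (fun x => ∃ g : G, g • a = x)

theorem mem_orbitIn {X : Finset Ω} {a x : Ω} : x ∈ orbitIn G X a ↔ x ∈ X ∧ ∃ g : G, g • a = x := by
  classical
  simp [orbitIn]

theorem inv_orbitIn {X : Finset Ω} (hX : Inv G X) (a : Ω) : Inv G (orbitIn G X a) := by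
  intro g x hx
  obtain ⟨hxX, h, rfl⟩ := mem_orbitIn.mp hx
  exact mem_orbitIn.mpr ⟨hX g _ hxX, g * h, mul_smul g h a⟩

theorem inv_sdiff [DecidableEq Ω] {X Y : Finset Ω} (hX : Inv G X) (hY : Inv G Y) : Inv G (X \ Y) := by
  intro g x hx
  rw [Finset.mem_sdiff] at hx ⊢
  refine ⟨hX g x hx.1, fun h => hx.2 ?_⟩
  simpa using hY g⁻¹ _ h

theorem one_lt_card_orbitIn {X : Finset Ω} (hX : Inv G X) (hn : NoFix G X) {a : Ω} (ha : a ∈ X) :
    1 < (orbitIn G X a).card := by
  obtain ⟨g, hg⟩ := hn a ha
  exact Finset.one_lt_card.mpr ⟨g • a, mem_orbitIn.mpr ⟨hX g a ha, g, rfl⟩, a,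
    mem_orbitIn.mpr ⟨ha, 1, one_smul G a⟩, hg⟩

/-- A point which is not fixed by the Sylow subgroup has at least `p` translates. -/
theorem exists_p_translates [Finite G] (P : Sylow p G) {x : Ω} (hx : ¬ ∀ g ∈ (P : Subgroup G), g • x = x)
    {Z : Finset Ω} (hZ : ∀ g ∈ (P : Subgroup G), g • x ∈ Z) : p ≤ Z.card := by
  classical
  have : Finite (orbit ↥(P : Subgroup G) x) := (Set.finite_range _).to_subtype
  obtain ⟨k, hk⟩ := P.isPGroup'.card_orbit x
  have hk0 : k ≠ 0 := by
    rintro rfl
    rw [pow_zero, Nat.card_eq_one_iff_unique] at hk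
    obtain ⟨hs, -⟩ := hk
    refine hx fun g hg => ?_
    have := hs.elim ⟨(⟨g, hg⟩ : ↥(P : Subgroup G)) • x, mem_orbit x _⟩ ⟨x, mem_orbit_self x⟩
    exact congrArg Subtype.val this
  have hsub : orbit ↥(P : Subgroup G) x ⊆ (Z : Set Ω) := by
    rintro y ⟨g, rfl⟩
    exact hZ g g.2
  calc p ≤ p ^ k := Nat.le_self_pow hk0 p
    _ = Nat.card (orbit ↥(P : Subgroup G) x) := hk.symm
    _ ≤ Nat.card (Z : Set Ω) := Nat.card_mono Z.finite_toSet hsub
    _ = Z.card := by simp [Nat.card_eq_fintype_card]

end Sets

/-- The bound below degree `n`. -/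
def Fine (p n : ℕ) [Fact p.Prime] : Prop :=
  ∀ (G : Type u) [Group G] [Finite G] (Ω : Type u) [MulAction G Ω], Gen p G →
    ∀ (X : Finset Ω), Inv G X → (∀ x ∈ X, ∀ y ∈ X, ∃ g : G, g • x = y) → 1 < X.card → X.card < n →
      ∀ P : Sylow p G, 0 ≤ defect p (P : Subgroup G) X

section Step

variable {p n : ℕ} [Fact p.Prime]

theorem nonneg_of_fine (hF : Fine.{u} p n) {G : Type u} [Group G] [Finite G] {Ω : Type u} [MulAction G Ω]
    (hG : Gen p G) (P : Sylow p G) :
    ∀ X : Finset Ω, Inv G X → NoFix G X → X.card < n → 0 ≤ defect p (P : Subgroup G) X := by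
  classical
  intro X
  induction X using Finset.strongInduction with
  | H X ih =>
    intro hX hn hc
    rcases X.eq_empty_or_nonempty with rfl | ⟨a, ha⟩
    · rw [defect_empty]
    · have hsub : orbitIn G X a ⊆ X := fun x hx => (mem_orbitIn.mp hx).1
      have e : X = orbitIn G X a ∪ X \ orbitIn G X a := (Finset.union_sdiff_of_subset hsub).symm
      have h1 : 0 ≤ defect p (P : Subgroup G) (orbitIn G X a) := by
        refine hF G Ω hG _ (inv_orbitIn hX a) ?_ (one_lt_card_orbitIn hX hn ha)
          (lt_of_le_of_lt (Finset.card_le_card hsub) hc) P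
        intro x hx y hy
        obtain ⟨-, g, rfl⟩ := mem_orbitIn.mp hx
        obtain ⟨-, h, rfl⟩ := mem_orbitIn.mp hy
        exact ⟨h * g⁻¹, by rw [← mul_smul, inv_mul_cancel_right]⟩
      have h2 : 0 ≤ defect p (P : Subgroup G) (X \ orbitIn G X a) := by
        refine ih _ (Finset.sdiff_ssubset hsub ⟨a, mem_orbitIn.mpr ⟨ha, 1, one_smul G a⟩⟩)
          (inv_sdiff hX (inv_orbitIn hX a)) (fun x hx => hn x (Finset.mem_sdiff.mp hx).1) ?_
        exact lt_of_le_of_lt (Finset.card_le_card Finset.sdiff_subset) hc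
      rw [e, defect_union _ Finset.disjoint_sdiff]
      linarith

theorem defect_mono (hF : Fine.{u} p n) {G : Type u} [Group G] [Finite G] {Ω : Type u} [MulAction G Ω]
    (hG : Gen p G) (P : Sylow p G) {X Y : Finset Ω} (hX : Inv G X) (hn : NoFix G X) (hY : Inv G Y)
    (hYX : Y ⊆ X) (hc : X.card < n) : defect p (P : Subgroup G) Y ≤ defect p (P : Subgroup G) X := by
  classical
  have h := nonneg_of_fine hF hG P (X \ Y) (inv_sdiff hX hY) (fun x hx => hn x (Finset.mem_sdiff.mp hx).1)
    (lt_of_le_of_lt (Finset.card_le_card Finset.sdiff_subset) hc)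
  have e := defect_union (p := p) (P : Subgroup G) (Finset.disjoint_sdiff (s := Y) (t := X))
  rw [Finset.union_sdiff_of_subset hYX] at e
  linarith

/-- Small defect: every point has a translate fixed by the Sylow subgroup. -/
theorem cover_point (hF : Fine.{u} p n) {G : Type u} [Group G] [Finite G] {Ω : Type u} [MulAction G Ω]
    (hG : Gen p G) (P : Sylow p G) {X : Finset Ω} (hX : Inv G X) (hn : NoFix G X) (hc : X.card < n)
    (hd : defect p (P : Subgroup G) X + p < (p : ℤ) * p) {x : Ω} (hx : x ∈ X) :
    ∃ g : G, g • x ∈ fixSet (P : Subgroup G) X := by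
  classical
  by_contra hcon
  rw [not_exists] at hcon
  have hO : fixSet (P : Subgroup G) (orbitIn G X x) = ∅ := by
    refine Finset.eq_empty_of_forall_notMem fun y hy => ?_
    obtain ⟨hy1, hy2⟩ := mem_fixSet.mp hy
    obtain ⟨hyX, g, rfl⟩ := mem_orbitIn.mp hy1
    exact hcon g (mem_fixSet.mpr ⟨hyX, hy2⟩)
  have hxO : x ∈ orbitIn G X x := mem_orbitIn.mpr ⟨hx, 1, one_smul G x⟩
  have hp : p ≤ (orbitIn G X x).card := by
    refine exists_p_translates P (x := x) (fun h => ?_) (fun g _ => inv_orbitIn hX x g x hxO)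
    have := Finset.eq_empty_iff_forall_notMem.mp hO x
    exact this (mem_fixSet.mpr ⟨hxO, h⟩)
  have h1 := defect_mono hF hG P hX hn (inv_orbitIn hX x) (fun y hy => (mem_orbitIn.mp hy).1) hc
  have h2 : defect p (P : Subgroup G) (orbitIn G X x) = ((p : ℤ) - 1) * (orbitIn G X x).card := by
    rw [defect, hO]; simp
  have hp2 : (2 : ℤ) ≤ p := by exact_mod_cast (Fact.out : p.Prime).two_le
  have hp' : (p : ℤ) ≤ (orbitIn G X x).card := by exact_mod_cast hp
  nlinarith

/-- Equivariant images have smaller defect; for small defect fixed images come from fixed points. -/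
theorem defect_image_le (hF : Fine.{u} p n) {G : Type u} [Group G] [Finite G] {Ω Τ : Type u}
    [MulAction G Ω] [MulAction G Τ] [DecidableEq Τ] (hG : Gen p G) (P : Sylow p G) (φ : Ω → Τ) :
    ∀ X : Finset Ω, Inv G X → (∀ g : G, ∀ x ∈ X, φ (g • x) = g • φ x) → NoFix G (X.image φ) → X.card < n →
      defect p (P : Subgroup G) (X.image φ) ≤ defect p (P : Subgroup G) X ∧
      (defect p (P : Subgroup G) X < (p : ℤ) * p → ∀ x ∈ X, φ x ∈ fixSet (P : Subgroup G) (X.image φ) →
        x ∈ fixSet (P : Subgroup G) X) := by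
  classical
  intro X
  induction X using Finset.strongInduction with
  | H X ih =>
    intro hX hφ hn hc
    rcases X.eq_empty_or_nonempty with rfl | ⟨a, ha⟩
    · simp [defect_empty]
    · set O := orbitIn G X a with hOdef
      have hsub : O ⊆ X := fun x hx => (mem_orbitIn.mp hx).1
      have haO : a ∈ O := mem_orbitIn.mpr ⟨ha, 1, one_smul G a⟩
      have hOinv : Inv G O := inv_orbitIn hX a
      set R := X \ O with hRdef
      have hRinv : Inv G R := inv_sdiff hX hOinv
      have eX : X = O ∪ R := (Finset.union_sdiff_of_subset hsub).symm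
      have hnX : NoFix G X := by
        intro x hx
        obtain ⟨g, hg⟩ := hn (φ x) (Finset.mem_image_of_mem φ hx)
        exact ⟨g, fun h => hg (by rw [← hφ g x hx, h])⟩
      have himg : ∀ Y : Finset Ω, Y ⊆ X → Inv G Y → Inv G (Y.image φ) := by
        intro Y hYX hY g t ht
        obtain ⟨y, hy, rfl⟩ := Finset.mem_image.mp ht
        rw [← hφ g y (hYX hy)]
        exact Finset.mem_image_of_mem φ (hY g y hy)
      obtain ⟨ihR, ihR'⟩ := ih R (Finset.sdiff_ssubset hsub ⟨a, haO⟩) hRinv
        (fun g x hx => hφ g x (Finset.mem_sdiff.mp hx).1)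
        (fun t ht => hn t (Finset.image_subset_image Finset.sdiff_subset ht))
        (lt_of_le_of_lt (Finset.card_le_card Finset.sdiff_subset) hc)
      set T := O.image φ with hTdef
      have hTinv : Inv G T := himg O hsub hOinv
      -- the image of the orbit
      have hT0 : 0 ≤ defect p (P : Subgroup G) T := by
        refine nonneg_of_fine hF hG P T hTinv (fun t ht => hn t (Finset.image_subset_image hsub ht)) ?_
        exact lt_of_le_of_lt (Finset.card_image_le.trans (Finset.card_le_card hsub)) hc
      set s := (O.filter (fun x => φ x = φ a)).card with hsdef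
      have hs1 : 1 ≤ s := Finset.card_pos.mpr ⟨a, Finset.mem_filter.mpr ⟨haO, rfl⟩⟩
      have hfib : ∀ t ∈ T, (O.filter (fun x => φ x = t)).card = s := by
        intro t ht
        obtain ⟨b, hb, rfl⟩ := Finset.mem_image.mp ht
        obtain ⟨hbX, g, rfl⟩ := mem_orbitIn.mp hb
        refine (Finset.card_bij (fun x _ => g • x) ?_ (fun x _ y _ h => MulAction.injective g h) ?_).symm
        · intro x hx
          obtain ⟨hxO, hxa⟩ := Finset.mem_filter.mp hx
          exact Finset.mem_filter.mpr ⟨hOinv g x hxO, by rw [hφ g x (hsub hxO), hxa, hφ g a ha]⟩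
        · intro y hy
          obtain ⟨hyO, hyb⟩ := Finset.mem_filter.mp hy
          refine ⟨g⁻¹ • y, Finset.mem_filter.mpr ⟨hOinv _ y hyO, ?_⟩, smul_inv_smul g y⟩
          rw [hφ _ y (hsub hyO), hyb, hφ g a ha, inv_smul_smul]
      have hcardO : O.card = T.card * s := by
        rw [Finset.card_eq_sum_card_image φ O, ← hTdef, Finset.sum_congr rfl hfib]
        simp
      set Z := O.filter (fun x => φ x ∈ fixSet (P : Subgroup G) T) with hZdef
      have hcardZ : Z.card = (fixSet (P : Subgroup G) T).card * s := by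
        have e : Z.image φ = fixSet (P : Subgroup G) T := by
          ext t
          simp only [hZdef, Finset.mem_image, Finset.mem_filter]
          constructor
          · rintro ⟨x, ⟨-, hx⟩, rfl⟩; exact hx
          · intro ht
            obtain ⟨x, hx, rfl⟩ := Finset.mem_image.mp (mem_fixSet.mp ht).1
            exact ⟨x, ⟨hx, ht⟩, rfl⟩
        rw [Finset.card_eq_sum_card_image φ Z, e, Finset.sum_congr rfl (g := fun _ => s) ?_]
        · simp
        · intro t ht
          rw [← hfib t (mem_fixSet.mp ht).1]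
          congr 1
          ext x
          simp only [hZdef, Finset.mem_filter]
          exact ⟨fun h => ⟨h.1.1, h.2⟩, fun h => ⟨⟨h.1, h.2 ▸ ht⟩, h.2⟩⟩
      have hfixZ : fixSet (P : Subgroup G) O ⊆ Z := by
        intro x hx
        obtain ⟨hxO, hxf⟩ := mem_fixSet.mp hx
        refine Finset.mem_filter.mpr ⟨hxO, mem_fixSet.mpr ⟨Finset.mem_image_of_mem φ hxO, fun g hg => ?_⟩⟩
        rw [← hφ g x (hsub hxO), hxf g hg]
      have eO : defect p (P : Subgroup G) O = (s : ℤ) * defect p (P : Subgroup G) T
          + (2 * (p : ℤ) - 1) * ((Z \ fixSet (P : Subgroup G) O).card : ℤ) := by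
        rw [Finset.card_sdiff_of_subset hfixZ, Nat.cast_sub (Finset.card_le_card hfixZ), hcardZ,
          defect, defect, hcardO]
        push_cast
        ring
      have hp2 : (2 : ℤ) ≤ p := by exact_mod_cast (Fact.out : p.Prime).two_le
      have hleO : defect p (P : Subgroup G) T ≤ defect p (P : Subgroup G) O := by
        have : (1 : ℤ) ≤ s := by exact_mod_cast hs1
        have h2 : (0 : ℤ) ≤ (2 * (p : ℤ) - 1) * ((Z \ fixSet (P : Subgroup G) O).card : ℤ) :=
          mul_nonneg (by linarith) (Int.natCast_nonneg _)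
        nlinarith
      have eXd : defect p (P : Subgroup G) X = defect p (P : Subgroup G) O + defect p (P : Subgroup G) R := by
        conv_lhs => rw [eX]
        exact defect_union _ Finset.disjoint_sdiff
      have eI : X.image φ = T ∪ R.image φ := by rw [hTdef, ← Finset.image_union, ← eX]
      constructor
      · have hRimg : Inv G (R.image φ) := himg R Finset.sdiff_subset hRinv
        have hI : Inv G (X.image φ) := himg X subset_rfl hX
        have hd : defect p (P : Subgroup G) (X.image φ \ R.image φ) ≤ defect p (P : Subgroup G) T := by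
          refine defect_mono hF hG P hTinv (fun t ht => hn t (Finset.image_subset_image hsub ht))
            (inv_sdiff hI hRimg) ?_ (lt_of_le_of_lt (Finset.card_image_le.trans (Finset.card_le_card hsub)) hc)
          intro t ht
          rw [eI, Finset.mem_sdiff, Finset.mem_union] at ht
          exact ht.1.resolve_right ht.2
        have e : defect p (P : Subgroup G) (X.image φ) =
            defect p (P : Subgroup G) (R.image φ) + defect p (P : Subgroup G) (X.image φ \ R.image φ) := by
          rw [← defect_union _ Finset.disjoint_sdiff,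
            Finset.union_sdiff_of_subset (Finset.image_subset_image Finset.sdiff_subset)]
        rw [e, eXd]
        linarith
      · intro hsmall x hx hfx
        have hR0 : 0 ≤ defect p (P : Subgroup G) R :=
          nonneg_of_fine hF hG P R hRinv (fun y hy => hnX y (Finset.mem_sdiff.mp hy).1)
            (lt_of_le_of_lt (Finset.card_le_card Finset.sdiff_subset) hc)
        rw [eX, Finset.mem_union] at hx
        rcases hx with hxO | hxR
        · by_contra hnot
          have hxZ : x ∈ Z := Finset.mem_filter.mpr ⟨hxO, mem_fixSet.mpr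
            ⟨Finset.mem_image_of_mem φ hxO, (mem_fixSet.mp hfx).2⟩⟩
          have hxn : ¬ ∀ g ∈ (P : Subgroup G), g • x = x := fun h => hnot (mem_fixSet.mpr ⟨hsub hxO, h⟩)
          have hp : p ≤ (Z \ fixSet (P : Subgroup G) O).card := by
            refine exists_p_translates P hxn (fun g hg => ?_)
            refine Finset.mem_sdiff.mpr ⟨Finset.mem_filter.mpr ⟨hOinv g x hxO, ?_⟩, fun h => hxn ?_⟩
            · rw [hφ g x (hsub hxO), (mem_fixSet.mp hfx).2 g hg]
              exact (Finset.mem_filter.mp hxZ).2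
            · intro k hk
              have h1 := (mem_fixSet.mp h).2 g hg
              have h2 : g • x = x := MulAction.injective g h1
              exact h2 ▸ (mem_fixSet.mp h).2 k hk
          have hp' : (p : ℤ) ≤ ((Z \ fixSet (P : Subgroup G) O).card : ℤ) := by exact_mod_cast hp
          have hs0 : (0 : ℤ) ≤ (s : ℤ) * defect p (P : Subgroup G) T := mul_nonneg (Int.natCast_nonneg _) hT0
          have : (2 * (p : ℤ) - 1) * p ≤ (2 * (p : ℤ) - 1) * ((Z \ fixSet (P : Subgroup G) O).card : ℤ) :=
            mul_le_mul_of_nonneg_left hp' (by linarith)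
          nlinarith
        · have hO0 : 0 ≤ defect p (P : Subgroup G) O := hT0.trans hleO
          have := ihR' (by linarith) x hxR (mem_fixSet.mpr
            ⟨Finset.mem_image_of_mem φ hxR, (mem_fixSet.mp hfx).2⟩)
          exact mem_fixSet.mpr ⟨(Finset.mem_sdiff.mp hxR).1, (mem_fixSet.mp this).2⟩

/-- The covering lemma. -/
theorem cover (hF : Fine.{u} p n) (k : ℕ) :
    ∀ (G : Type u) [Group G] [Finite G] (Ω : Type u) [MulAction G Ω], Gen p G → ∀ (P : Sylow p G)
      (X S : Finset Ω), Inv G X → NoFix G X → X.card < n → S ⊆ X → S.card ≤ k →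
      defect p (P : Subgroup G) X + (p : ℤ) * S.card < (p : ℤ) * p →
      ∃ g : G, ∀ x ∈ S, g • x ∈ fixSet (P : Subgroup G) X := by
  induction k with
  | zero =>
    intro G _ _ Ω _ _ P X S _ _ _ _ hk _
    refine ⟨1, fun x hx => ?_⟩
    rw [Finset.card_eq_zero.mp (Nat.le_zero.mp hk)] at hx
    exact absurd hx (Finset.notMem_empty x)
  | succ k ih =>
    intro G _ _ Ω _ hG P X S hX hn hc hSX hk hd
    classical
    rcases S.eq_empty_or_nonempty with rfl | hSne
    · exact ⟨1, fun x hx => absurd hx (Finset.notMem_empty x)⟩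
    have hp2 : (2 : ℤ) ≤ p := by exact_mod_cast (Fact.out : p.Prime).two_le
    have hS1 : (1 : ℤ) ≤ S.card := by exact_mod_cast hSne.card_pos
    have hd1 : defect p (P : Subgroup G) X + p < (p : ℤ) * p := by nlinarith
    have hdX : defect p (P : Subgroup G) X < (p : ℤ) * p := by linarith
    -- maximal subgroups above the stabilisers, chosen by orbits
    have key : ∀ q : MulAction.orbitRel.Quotient G Ω, ∃ M : Subgroup G,
        q.out ∈ X → IsCoatom M ∧ stabilizer G q.out ≤ M := by
      intro q
      by_cases hq : q.out ∈ X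
      · rcases eq_top_or_exists_le_coatom (stabilizer G q.out) with h | ⟨M, hM, hle⟩
        · obtain ⟨g, hg⟩ := hn _ hq
          exact absurd (show g ∈ stabilizer G q.out from h ▸ Subgroup.mem_top g) hg
        · exact ⟨M, fun _ => ⟨hM, hle⟩⟩
      · exact ⟨⊤, fun h => absurd h hq⟩
    choose M hM using key
    have hrep : ∀ x : Ω, ∃ g : G, g • (Quotient.mk'' x : MulAction.orbitRel.Quotient G Ω).out = x := by
      intro x
      have : (Quotient.mk'' x : MulAction.orbitRel.Quotient G Ω).out ∈ orbit G x :=
        Quotient.mk_out (s := orbitRel G Ω) x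
      obtain ⟨g, hg⟩ := this
      exact ⟨g⁻¹, by rw [← hg]; exact inv_smul_smul g x⟩
    choose w hw using hrep
    let φ : Ω → Conjs G := fun x => w x • (⟨M (Quotient.mk'' x)⟩ : Conjs G)
    have hout : ∀ x ∈ X, (Quotient.mk'' x : MulAction.orbitRel.Quotient G Ω).out ∈ X := by
      intro x hx
      have := hX (w x)⁻¹ x hx
      rwa [show (w x)⁻¹ • x = (Quotient.mk'' x : MulAction.orbitRel.Quotient G Ω).out from
        inv_smul_eq_iff.mpr (hw x).symm] at this
    have hφ : ∀ g : G, ∀ x ∈ X, φ (g • x) = g • φ x := by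
      intro g x hx
      have eq : (Quotient.mk'' (g • x) : MulAction.orbitRel.Quotient G Ω) = Quotient.mk'' x :=
        Quotient.sound' ⟨g, rfl⟩
      show w (g • x) • (⟨M (Quotient.mk'' (g • x))⟩ : Conjs G) = g • w x • (⟨M (Quotient.mk'' x)⟩ : Conjs G)
      have hgx := hw (g • x)
      rw [eq] at hgx ⊢
      set m : Conjs G := ⟨M (Quotient.mk'' x)⟩ with hmdef
      set z : Ω := (Quotient.mk'' x : MulAction.orbitRel.Quotient G Ω).out with hzdef
      rw [← mul_smul]
      have hmem : (g * w x)⁻¹ * w (g • x) ∈ stabilizer G z := by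
        rw [mem_stabilizer_iff, mul_smul, hgx, inv_smul_eq_iff, mul_smul, hw x]
      have hfix : (g * w x)⁻¹ * w (g • x) ∈ stabilizer G m := by
        rw [stabilizer_conjs]
        exact Subgroup.le_normalizer ((hM _ (hout x hx)).2 hmem)
      rw [mem_stabilizer_iff, mul_smul, inv_smul_eq_iff] at hfix
      exact hfix
    -- properties of the image
    have hcov : ∀ x ∈ X, ∃ g : G, g • x ∈ fixSet (P : Subgroup G) X := fun x hx =>
      cover_point hF hG P hX hn hc hd1 hx
    have hmax : ∀ t ∈ X.image φ, IsCoatom (stabilizer G t) ∧ stabilizer G t = t.sub := by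
      intro t ht
      obtain ⟨x, hx, rfl⟩ := Finset.mem_image.mp ht
      obtain ⟨hco, hle⟩ := hM _ (hout x hx)
      obtain ⟨g, hg⟩ := hcov _ (hout x hx)
      set z := (Quotient.mk'' x : MulAction.orbitRel.Quotient G Ω).out
      set N : Subgroup G := M (Quotient.mk'' x) with hNdef
      have hnn : ¬ N.Normal := by
        intro hnor
        refine hco.1 (eq_top_of_sylow_le hG P fun h hh => ?_)
        have h1 : g⁻¹ * h * g ∈ stabilizer G z := by
          rw [mem_stabilizer_iff, mul_smul, mul_smul, (mem_fixSet.mp hg).2 h hh, inv_smul_smul]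
        have h2 := hnor.conj_mem _ (hle h1) g
        rwa [show g * (g⁻¹ * h * g) * g⁻¹ = h by group] at h2
      have hnN : Subgroup.normalizer (N : Set G) = N := by
        rcases hco.le_iff.mp (Subgroup.le_normalizer (H := N)) with h | h
        · exact absurd (Subgroup.normalizer_eq_top_iff.mp h) hnn
        · exact h
      have e : stabilizer G (φ x) = (φ x).sub := by
        show stabilizer G (w x • (⟨N⟩ : Conjs G)) = _
        rw [stabilizer_smul_eq_stabilizer_map_conj, stabilizer_conjs, hnN]
        rfl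
      refine ⟨?_, e⟩
      rw [e]
      show IsCoatom (Subgroup.map (MulAut.conj (w x)).toMonoidHom N)
      exact ((MulAut.conj (w x)).mapSubgroup.isCoatom_iff N).mpr hco
    have hn' : NoFix G (X.image φ) := by
      intro t ht
      by_contra hcon
      push Not at hcon
      exact (hmax t ht).1.1 (eq_top_iff.mpr fun g _ => hcon g)
    have hX' : Inv G (X.image φ) := by
      intro g t ht
      obtain ⟨x, hx, rfl⟩ := Finset.mem_image.mp ht
      rw [← hφ g x hx]
      exact Finset.mem_image_of_mem φ (hX g x hx)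
    obtain ⟨hdle, hlift⟩ := defect_image_le hF hG P φ X hX hφ hn' hc
    set X' := X.image φ with hX'def
    set S' := S.image φ with hS'def
    have hS'X : S' ⊆ X' := Finset.image_subset_image hSX
    have hc' : X'.card < n := lt_of_le_of_lt Finset.card_image_le hc
    have hd' : defect p (P : Subgroup G) X' + (p : ℤ) * S'.card < (p : ℤ) * p := by
      have : (S'.card : ℤ) ≤ S.card := by exact_mod_cast Finset.card_image_le
      nlinarith
    suffices ∃ g : G, ∀ t ∈ S', g • t ∈ fixSet (P : Subgroup G) X' by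
      obtain ⟨g, hg⟩ := this
      refine ⟨g, fun x hx => hlift hdX _ (hX g x (hSX hx)) ?_⟩
      rw [hφ g x (hSX hx)]
      exact hg _ (Finset.mem_image_of_mem φ hx)
    have hk' : S'.card ≤ k + 1 := Finset.card_image_le.trans hk
    -- keep the orbits meeting S'
    set Y := X'.filter (fun t => ∃ g : G, g • t ∈ S') with hYdef
    have hYinv : Inv G Y := by
      intro g t ht
      obtain ⟨ht', h, hh⟩ := Finset.mem_filter.mp ht
      exact Finset.mem_filter.mpr ⟨hX' g t ht', h * g⁻¹, by rwa [← mul_smul, inv_mul_cancel_right]⟩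
    have hYd : defect p (P : Subgroup G) Y ≤ defect p (P : Subgroup G) X' :=
      defect_mono hF hG P hX' hn' hYinv (Finset.filter_subset _ _) hc'
    obtain ⟨t0, ht0, ht0max⟩ :=
      S'.exists_max_image (fun t => Nat.card ↥(pcl p (stabilizer G t))) (hSne.image φ)
    have hd1' : defect p (P : Subgroup G) X' + p < (p : ℤ) * p := by linarith
    obtain ⟨g0, hg0⟩ := cover_point hF hG P hX' hn' hc' hd1' (hS'X ht0)
    set a := g0 • t0 with hadef
    have hPa : (P : Subgroup G) ≤ stabilizer G a := fun h hh => (mem_fixSet.mp hg0).2 h hh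
    have hcard : ∀ (g : G) (t : Conjs G), Nat.card ↥(pcl p (stabilizer G (g • t))) =
        Nat.card ↥(pcl p (stabilizer G t)) := by
      intro g t
      rw [stabilizer_smul_eq_stabilizer_map_conj, pcl_map]
      exact Subgroup.card_map_of_injective (MulAut.conj g).injective
    have haY : a ∈ Y := Finset.mem_filter.mpr ⟨(mem_fixSet.mp hg0).1, g0⁻¹, by rwa [hadef, inv_smul_smul]⟩
    set K := pcl p (stabilizer G a) with hKdef
    have hKa : ∀ g ∈ K, g • a = a := fun g hg => pcl_le (stabilizer G a) hg
    have hPK : (P : Subgroup G) ≤ K := sylow_le_pcl hPa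
    have hnK : NoFix ↥K (Y.erase a) := by
      intro y hy
      obtain ⟨hya, hyY⟩ := Finset.mem_erase.mp hy
      by_contra hcon
      push Not at hcon
      obtain ⟨hyX, g, hg⟩ := Finset.mem_filter.mp hyY
      have hle : K ≤ stabilizer G y := fun h hh => hcon ⟨h, hh⟩
      have hc2 : Nat.card ↥(pcl p (stabilizer G y)) ≤ Nat.card ↥K := by
        calc Nat.card ↥(pcl p (stabilizer G y)) = Nat.card ↥(pcl p (stabilizer G (g • y))) := (hcard g y).symm
          _ ≤ Nat.card ↥(pcl p (stabilizer G t0)) := ht0max _ hg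
          _ = Nat.card ↥K := (hcard g0 t0).symm
      have := eq_of_pcl_le hG (hmax a (mem_fixSet.mp hg0).1).1 (hmax y hyX).1 P hPa hle hc2
      rw [(hmax a (mem_fixSet.mp hg0).1).2, (hmax y hyX).2] at this
      exact hya (Conjs.ext this)
    have hKinv : Inv ↥K (Y.erase a) := by
      intro g y hy
      obtain ⟨hya, hyY⟩ := Finset.mem_erase.mp hy
      refine Finset.mem_erase.mpr ⟨fun h => hya ?_, hYinv g y hyY⟩
      have : (g : G) • y = (g : G) • a := by rw [hKa g g.2]; exact h
      exact MulAction.injective (g : G) this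
    have efix : fixSet ((P.subtype hPK : Sylow p ↥K) : Subgroup ↥K) (Y.erase a) =
        fixSet (P : Subgroup G) (Y.erase a) := by
      ext y
      simp only [mem_fixSet, Sylow.coe_subtype, Subgroup.mem_subgroupOf]
      exact ⟨fun h => ⟨h.1, fun g hg => h.2 ⟨g, hPK hg⟩ hg⟩, fun h => ⟨h.1, fun g hg => h.2 g hg⟩⟩
    have ed : defect p ((P.subtype hPK : Sylow p ↥K) : Subgroup ↥K) (Y.erase a) =
        defect p (P : Subgroup G) Y + p := by
      have e : Y = {a} ∪ Y.erase a := by rw [← Finset.insert_eq, Finset.insert_erase haY]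
      have e1 : fixSet (P : Subgroup G) ({a} : Finset (Conjs G)) = {a} := by
        ext y
        simp only [mem_fixSet, Finset.mem_singleton]
        exact ⟨fun h => h.1, fun h => ⟨h, fun g hg => h ▸ hPa hg⟩⟩
      conv_rhs => rw [e, defect_union _ (Finset.disjoint_singleton_left.mpr (Finset.notMem_erase a Y))]
      simp only [defect, efix, e1, Finset.card_singleton]
      push_cast
      ring
    set S'' := (S'.image (fun t => g0 • t)).erase a with hS''def
    have haS : a ∈ S'.image (fun t => g0 • t) := Finset.mem_image_of_mem _ ht0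
    have hcS : S''.card + 1 = S'.card := by
      rw [hS''def, Finset.card_erase_add_one haS,
        Finset.card_image_of_injective _ (MulAction.injective g0)]
    have hS''Y : S'' ⊆ Y.erase a := by
      intro y hy
      obtain ⟨hya, hy'⟩ := Finset.mem_erase.mp hy
      obtain ⟨t, ht, rfl⟩ := Finset.mem_image.mp hy'
      exact Finset.mem_erase.mpr ⟨hya, Finset.mem_filter.mpr
        ⟨hX' g0 t (hS'X ht), g0⁻¹, by rwa [inv_smul_smul]⟩⟩
    have hd'' : defect p ((P.subtype hPK : Sylow p ↥K) : Subgroup ↥K) (Y.erase a) +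
        (p : ℤ) * S''.card < (p : ℤ) * p := by
      rw [ed]
      have : (S''.card : ℤ) + 1 = S'.card := by exact_mod_cast hcS
      nlinarith
    obtain ⟨g1, hg1⟩ := ih ↥K (Conjs G) (gen_pcl (stabilizer G a)) (P.subtype hPK) (Y.erase a) S''
      hKinv hnK (lt_of_le_of_lt (Finset.card_le_card ((Finset.erase_subset _ _).trans
        (Finset.filter_subset _ _))) hc') hS''Y (by omega) hd''
    refine ⟨(g1 : G) * g0, fun t ht => ?_⟩
    rw [mul_smul]
    by_cases hta : g0 • t = a
    · rw [hta, hKa g1 g1.2]
      exact mem_fixSet.mpr ⟨(Finset.mem_filter.mp haY).1, fun h hh => hPa hh⟩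
    · have h1 := hg1 (g0 • t) (Finset.mem_erase.mpr ⟨hta, Finset.mem_image_of_mem _ ht⟩)
      rw [efix] at h1
      obtain ⟨h2, h3⟩ := mem_fixSet.mp h1
      exact mem_fixSet.mpr ⟨(Finset.mem_filter.mp (Finset.mem_of_mem_erase h2)).1, h3⟩

end Step

/-- The bound: a Sylow subgroup fixes at most `n(p-1)/(2p-1)` points. -/
theorem fine_all (p : ℕ) [Fact p.Prime] : ∀ n, Fine.{u} p n := by
  intro n
  induction n using Nat.strong_induction_on with
  | _ n ih =>
    intro G _ _ Ω _ hG X hX htr h1 hc P
    classical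
    have hF : Fine.{u} p X.card := ih X.card hc
    have hp2 : (2 : ℤ) ≤ p := by exact_mod_cast (Fact.out : p.Prime).two_le
    rcases (fixSet (P : Subgroup G) X).eq_empty_or_nonempty with hf | ⟨a, ha⟩
    · rw [defect, hf]
      simp only [Finset.card_empty, Nat.cast_zero, mul_zero, sub_zero]
      exact mul_nonneg (by linarith) (Int.natCast_nonneg _)
    obtain ⟨haX, haP⟩ := mem_fixSet.mp ha
    set H := stabilizer G a with hHdef
    have hPH : (P : Subgroup G) ≤ H := fun g hg => haP g hg
    have hHtop : H ≠ ⊤ := by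
      intro h
      obtain ⟨b, hb, hba⟩ := Finset.exists_mem_ne h1 a
      obtain ⟨g, rfl⟩ := htr a haX b hb
      exact hba (show g ∈ H from h ▸ Subgroup.mem_top g)
    rcases eq_top_or_exists_le_coatom H with h | ⟨M, hM, hHM⟩
    · exact absurd h hHtop
    choose! w hw using fun x (hx : x ∈ X) => htr a haX x hx
    by_cases hMH : M = H
    swap
    · -- imprimitive: the blocks are the cosets of `M`
      let φ : Ω → G ⧸ M := fun x => (QuotientGroup.mk (w x) : G ⧸ M)
      have hφ : ∀ g : G, ∀ x ∈ X, φ (g • x) = g • φ x := by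
        intro g x hx
        show (QuotientGroup.mk (w (g • x)) : G ⧸ M) = QuotientGroup.mk (g * w x)
        rw [QuotientGroup.eq]
        refine hHM ?_
        rw [hHdef, mem_stabilizer_iff, mul_smul, inv_smul_eq_iff, hw _ (hX g x hx), mul_smul, hw x hx]
      have hn' : NoFix G (X.image φ) := by
        intro t ht
        obtain ⟨x, hx, rfl⟩ := Finset.mem_image.mp ht
        by_contra hcon
        push Not at hcon
        refine hM.1 (eq_top_iff.mpr fun g _ => ?_)
        have h := hcon (w x * g * (w x)⁻¹)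
        have h' : (QuotientGroup.mk (w x * g * (w x)⁻¹ * w x) : G ⧸ M) = QuotientGroup.mk (w x) := h
        rw [QuotientGroup.eq] at h'
        simpa [mul_assoc] using M.inv_mem h'
      have hlt : (X.image φ).card < X.card := by
        refine lt_of_le_of_ne Finset.card_image_le fun he => hMH (le_antisymm ?_ hHM)
        intro m hm
        have hinj := Finset.card_image_iff.mp he
        have h1 : φ (m • a) = φ a := by
          rw [hφ m a haX]
          show (QuotientGroup.mk (m * w a) : G ⧸ M) = QuotientGroup.mk (w a)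
          have hwa : w a ∈ M := hHM (hw a haX)
          rw [QuotientGroup.eq]
          exact M.mul_mem (M.inv_mem (M.mul_mem hm hwa)) hwa
        exact hinj (hX m a haX) haX h1
      -- count directly over the fibres
      set T := X.image φ with hTdef
      have hTinv : Inv G T := by
        intro g t ht
        obtain ⟨x, hx, rfl⟩ := Finset.mem_image.mp ht
        rw [← hφ g x hx]
        exact Finset.mem_image_of_mem φ (hX g x hx)
      have hT0 : 0 ≤ defect p (P : Subgroup G) T := nonneg_of_fine hF hG P T hTinv hn' hlt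
      set s := (X.filter (fun x => φ x = φ a)).card with hsdef
      have hfib : ∀ t ∈ T, (X.filter (fun x => φ x = t)).card = s := by
        intro t ht
        obtain ⟨b, hb, rfl⟩ := Finset.mem_image.mp ht
        obtain ⟨g, rfl⟩ := htr a haX b hb
        refine (Finset.card_bij (fun x _ => g • x) ?_ (fun x _ y _ h => MulAction.injective g h) ?_).symm
        · intro x hx
          obtain ⟨hxO, hxa⟩ := Finset.mem_filter.mp hx
          exact Finset.mem_filter.mpr ⟨hX g x hxO, by rw [hφ g x hxO, hxa, hφ g a haX]⟩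
        · intro y hy
          obtain ⟨hyO, hyb⟩ := Finset.mem_filter.mp hy
          refine ⟨g⁻¹ • y, Finset.mem_filter.mpr ⟨hX _ y hyO, ?_⟩, smul_inv_smul g y⟩
          rw [hφ _ y hyO, hyb, hφ g a haX, inv_smul_smul]
      have hcardX : X.card = T.card * s := by
        rw [Finset.card_eq_sum_card_image φ X, ← hTdef, Finset.sum_congr rfl hfib]
        simp
      set Z := X.filter (fun x => φ x ∈ fixSet (P : Subgroup G) T) with hZdef
      have hcardZ : Z.card = (fixSet (P : Subgroup G) T).card * s := by
        have e : Z.image φ = fixSet (P : Subgroup G) T := by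
          ext t
          simp only [hZdef, Finset.mem_image, Finset.mem_filter]
          constructor
          · rintro ⟨x, ⟨-, hx⟩, rfl⟩; exact hx
          · intro ht
            obtain ⟨x, hx, rfl⟩ := Finset.mem_image.mp (mem_fixSet.mp ht).1
            exact ⟨x, ⟨hx, ht⟩, rfl⟩
        rw [Finset.card_eq_sum_card_image φ Z, e, Finset.sum_congr rfl (g := fun _ => s) ?_]
        · simp
        · intro t ht
          rw [← hfib t (mem_fixSet.mp ht).1]
          congr 1
          ext x
          simp only [hZdef, Finset.mem_filter]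
          exact ⟨fun h => ⟨h.1.1, h.2⟩, fun h => ⟨⟨h.1, h.2 ▸ ht⟩, h.2⟩⟩
      have hfixZ : (fixSet (P : Subgroup G) X).card ≤ (fixSet (P : Subgroup G) T).card * s := by
        rw [← hcardZ]
        refine Finset.card_le_card fun x hx => ?_
        obtain ⟨hxO, hxf⟩ := mem_fixSet.mp hx
        refine Finset.mem_filter.mpr ⟨hxO, mem_fixSet.mpr ⟨Finset.mem_image_of_mem φ hxO, fun g hg => ?_⟩⟩
        rw [← hφ g x hxO, hxf g hg]
      have e : (0 : ℤ) ≤ (s : ℤ) * defect p (P : Subgroup G) T := mul_nonneg (Int.natCast_nonneg _) hT0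
      rw [defect] at e ⊢
      rw [hcardX]
      have hz : ((fixSet (P : Subgroup G) X).card : ℤ) ≤ (fixSet (P : Subgroup G) T).card * s := by
        exact_mod_cast hfixZ
      push_cast
      nlinarith
    -- primitive
    subst hMH
    have hnn : ¬ H.Normal := not_normal_of_sylow_le hG hM P hPH
    have hnH : Subgroup.normalizer (H : Set G) = H := by
      rcases hM.le_iff.mp (Subgroup.le_normalizer (H := H)) with h | h
      · exact absurd (Subgroup.normalizer_eq_top_iff.mp h) hnn
      · exact h
    set K := pcl p H with hKdef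
    have hKa : ∀ g ∈ K, g • a = a := fun g hg => pcl_le H hg
    have hPK : (P : Subgroup G) ≤ K := sylow_le_pcl hPH
    have hnK : NoFix ↥K (X.erase a) := by
      intro y hy
      obtain ⟨hya, hyX⟩ := Finset.mem_erase.mp hy
      by_contra hcon
      push Not at hcon
      have hle : K ≤ stabilizer G y := fun h hh => hcon ⟨h, hh⟩
      obtain ⟨g, rfl⟩ := htr a haX y hyX
      rw [stabilizer_smul_eq_stabilizer_map_conj, ← hHdef] at hle
      have hco : IsCoatom (H.map (MulAut.conj g).toMonoidHom) :=
        ((MulAut.conj g).mapSubgroup.isCoatom_iff H).mpr hM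
      have h2 : Nat.card ↥(pcl p (H.map (MulAut.conj g).toMonoidHom)) ≤ Nat.card ↥(pcl p H) := by
        rw [pcl_map, Subgroup.card_map_of_injective (MulAut.conj g).injective]
      have h3 := eq_of_pcl_le hG hM hco P hPH hle h2
      have hg : g ∈ stabilizer G (⟨H⟩ : Conjs G) := Conjs.ext h3
      rw [stabilizer_conjs, hnH] at hg
      exact hya hg
    have hKinv : Inv ↥K (X.erase a) := by
      intro g y hy
      obtain ⟨hya, hyY⟩ := Finset.mem_erase.mp hy
      refine Finset.mem_erase.mpr ⟨fun h => hya ?_, hX g y hyY⟩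
      have : (g : G) • y = (g : G) • a := by rw [hKa g g.2]; exact h
      exact MulAction.injective (g : G) this
    have efix : fixSet ((P.subtype hPK : Sylow p ↥K) : Subgroup ↥K) (X.erase a) =
        fixSet (P : Subgroup G) (X.erase a) := by
      ext y
      simp only [mem_fixSet, Sylow.coe_subtype, Subgroup.mem_subgroupOf]
      exact ⟨fun h => ⟨h.1, fun g hg => h.2 ⟨g, hPK hg⟩ hg⟩, fun h => ⟨h.1, fun g hg => h.2 g hg⟩⟩
    have ed : defect p ((P.subtype hPK : Sylow p ↥K) : Subgroup ↥K) (X.erase a) =
        defect p (P : Subgroup G) X + p := by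
      have e : X = {a} ∪ X.erase a := by rw [← Finset.insert_eq, Finset.insert_erase haX]
      have e1 : fixSet (P : Subgroup G) ({a} : Finset Ω) = {a} := by
        ext y
        simp only [mem_fixSet, Finset.mem_singleton]
        exact ⟨fun h => h.1, fun h => ⟨h, fun g hg => h ▸ haP g hg⟩⟩
      conv_rhs => rw [e, defect_union _ (Finset.disjoint_singleton_left.mpr (Finset.notMem_erase a X))]
      simp only [defect, efix, e1, Finset.card_singleton]
      push_cast
      ring
    by_contra hneg
    push Not at hneg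
    -- a cycle of length `p`
    obtain ⟨g, hgo, hga⟩ : ∃ g : G, (∃ k : ℕ, orderOf g = p ^ k) ∧ g • a ≠ a := by
      by_contra hcon
      push Not at hcon
      refine hHtop (top_le_iff.mp (hG ▸ (Subgroup.closure_le H).mpr ?_))
      rintro g ⟨k, hk⟩
      exact hcon g ⟨k, hk⟩
    obtain ⟨k, hk⟩ := hgo
    obtain ⟨y, hya, hyp, l, hy⟩ : ∃ y : G, y • a ≠ a ∧ y ^ p • a = a ∧ ∃ l : ℕ, orderOf y = p ^ l := by
      have hex : ∃ j : ℕ, g ^ p ^ j • a = a := ⟨k, by rw [← hk, pow_orderOf_eq_one, one_smul]⟩
      have hspec := Nat.find_spec hex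
      rcases hj : Nat.find hex with _ | j
      · rw [hj, pow_zero, pow_one] at hspec; exact absurd hspec hga
      · rw [hj, pow_succ, pow_mul] at hspec
        refine ⟨g ^ p ^ j, fun h => Nat.find_min hex (hj ▸ Nat.lt_succ_self j) h, hspec, ?_⟩
        have hd : orderOf (g ^ p ^ j) ∣ p ^ k := hk ▸ orderOf_pow_dvd (p ^ j)
        obtain ⟨l, -, hl⟩ := (Nat.dvd_prime_pow Fact.out).mp hd
        exact ⟨l, hl⟩
    set C := (Finset.range p).image (fun i : ℕ => y ^ i • a) with hCdef
    have hCy : ∀ x ∈ C, y • x ∈ C := by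
      intro x hx
      obtain ⟨i, hi, rfl⟩ := Finset.mem_image.mp hx
      rw [Finset.mem_range] at hi
      rw [← mul_smul, ← pow_succ']
      by_cases hip : i + 1 = p
      · rw [hip, hyp]
        exact Finset.mem_image.mpr ⟨0, Finset.mem_range.mpr (Fact.out : p.Prime).pos, by simp⟩
      · exact Finset.mem_image.mpr ⟨i + 1, Finset.mem_range.mpr (by omega), rfl⟩
    have haC : a ∈ C :=
      Finset.mem_image.mpr ⟨0, Finset.mem_range.mpr (Fact.out : p.Prime).pos, by simp⟩
    have hCX : C ⊆ X := by
      intro x hx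
      obtain ⟨i, -, rfl⟩ := Finset.mem_image.mp hx
      exact hX _ a haX
    have hCc : C.card ≤ p := Finset.card_image_le.trans (by simp)
    have hSc : (((C.erase a).card : ℤ)) + 1 ≤ p := by
      have := Finset.card_erase_add_one haC
      exact_mod_cast this ▸ hCc
    have hd'' : defect p ((P.subtype hPK : Sylow p ↥K) : Subgroup ↥K) (X.erase a) +
        (p : ℤ) * (C.erase a).card < (p : ℤ) * p := by
      rw [ed]; nlinarith
    obtain ⟨g1, hg1⟩ := cover hF (C.erase a).card ↥K Ω (gen_pcl H) (P.subtype hPK) (X.erase a) (C.erase a)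
      hKinv hnK (Finset.card_erase_lt_of_mem haX) (Finset.erase_subset_erase a hCX) le_rfl hd''
    have hfixC : ∀ x ∈ C, ∀ h ∈ (P : Subgroup G), h • (g1 : G) • x = (g1 : G) • x := by
      intro x hx h hh
      by_cases hxa : x = a
      · subst hxa; rw [hKa g1 g1.2]; exact haP h hh
      · have h1 := hg1 x (Finset.mem_erase.mpr ⟨hxa, hx⟩)
        rw [efix] at h1
        exact (mem_fixSet.mp h1).2 h hh
    -- the setwise stabiliser
    set L : Subgroup G := stabilizer G (C : Set Ω) with hLdef
    have hyL : y ∈ L := by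
      refine (mem_stabilizer_set_iff_subset_smul_set C.finite_toSet).mpr ?_
      have himg : C.image (fun x => y • x) = C := Finset.eq_of_subset_of_card_le
        (fun x hx => by obtain ⟨z, hz, rfl⟩ := Finset.mem_image.mp hx; exact hCy z hz)
        (by rw [Finset.card_image_of_injective _ (MulAction.injective y)])
      intro x hx
      rw [Finset.mem_coe, ← himg] at hx
      obtain ⟨z, hz, rfl⟩ := Finset.mem_image.mp hx
      exact Set.smul_mem_smul_set hz
    set Q : Sylow p G := (g1 : G)⁻¹ • P with hQdef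
    have hQfix : ∀ h ∈ (Q : Subgroup G), ∀ x ∈ C, h • x = x := by
      intro h hh x hx
      rw [hQdef, Sylow.coe_subgroup_smul] at hh
      obtain ⟨z, hz, rfl⟩ := hh
      show ((g1 : G)⁻¹ * z * (g1 : G)⁻¹⁻¹) • x = x
      rw [inv_inv, mul_smul, mul_smul, hfixC x hx z hz, inv_smul_smul]
    have hQL : (Q : Subgroup G) ≤ L := by
      intro h hh
      refine (mem_stabilizer_set_iff_subset_smul_set C.finite_toSet).mpr ?_
      intro x hx
      exact ⟨x, hx, hQfix h hh x hx⟩
    -- `y` generates a p-subgroup of `L`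
    have hz : IsPGroup p (Subgroup.zpowers (⟨y, hyL⟩ : ↥L)) :=
      IsPGroup.of_card (n := l) (by rw [Nat.card_zpowers, Subgroup.orderOf_mk, hy])
    obtain ⟨R, hR⟩ := hz.exists_le_sylow
    obtain ⟨c, rfl⟩ := MulAction.exists_smul_eq ↥L (Q.subtype hQL) R
    have hyR := hR (Subgroup.mem_zpowers _)
    rw [Sylow.coe_subgroup_smul] at hyR
    obtain ⟨z, hzQ, hzy⟩ := hyR
    rw [SetLike.mem_coe, Sylow.coe_subtype, Subgroup.mem_subgroupOf] at hzQ
    have hy' : y = (c : G) * z * (c : G)⁻¹ := by
      rw [← show ((c * z * c⁻¹ : ↥L) : G) = (c : G) * z * (c : G)⁻¹ from rfl]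
      exact (congrArg Subtype.val hzy).symm
    refine hya ?_
    have hca : (c : G)⁻¹ • a ∈ C := by
      have hc1 : (c : G)⁻¹ • (C : Set Ω) = C := L.inv_mem c.2
      rw [← Finset.mem_coe, ← hc1]
      exact Set.smul_mem_smul_set haC
    rw [hy', mul_smul, mul_smul, hQfix _ hzQ _ hca, smul_inv_smul]

/-- The bound for a transitive action of a group generated by `p`-elements. -/
theorem card_fixed_le {p : ℕ} [Fact p.Prime] {G : Type u} [Group G] [Finite G] {Ω : Type u} [MulAction G Ω]
    [Fintype Ω] (hG : Gen p G) (htr : IsPretransitive G Ω) (h1 : 1 < Fintype.card Ω) (P : Sylow p G) :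
    (2 * p - 1) * (fixSet (P : Subgroup G) (Finset.univ : Finset Ω)).card ≤ (p - 1) * Fintype.card Ω := by
  have h := fine_all p (Fintype.card Ω + 1) G Ω hG Finset.univ (fun _ _ _ => Finset.mem_univ _)
    (fun x _ y _ => htr.exists_smul_eq x y) h1 (Nat.lt_succ_self _) P
  rw [defect, Finset.card_univ] at h
  have hp := (Fact.out : p.Prime).two_le
  zify [show 1 ≤ 2 * p by omega, show 1 ≤ p by omega]
  linarith

end Cfsg.Agent.Lib.SylowFix
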