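import Cfsg.Agent.Lib.SylowFix.Basic

/-!
Consequences of the fixed point bound, in arbitrary universes.
-/

set_option autoImplicit false

namespace Cfsg.Agent.Lib.SylowFix

open MulAction

universe u v

theorem nonneg {p : ℕ} [Fact p.Prime] {G : Type u} [Group G] [Finite G] {Ω : Type v} [MulAction G Ω]
    (hG : Gen p G) (P : Sylow p G) :
    ∀ X : Finset Ω, Inv G X → NoFix G X → 0 ≤ defect p (P : Subgroup G) X := by
  classical
  intro X
  induction X using Finset.strongInduction with
  | H X ih =>
    intro hX hn
    rcases X.eq_empty_or_nonempty with rfl | ⟨a, ha⟩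
    · rw [defect_empty]
    · have hsub : orbitIn G X a ⊆ X := fun x hx => (mem_orbitIn.mp hx).1
      have e : X = orbitIn G X a ∪ X \ orbitIn G X a := (Finset.union_sdiff_of_subset hsub).symm
      have h1 : 0 ≤ defect p (P : Subgroup G) (orbitIn G X a) := by
        have : Fintype (G ⧸ stabilizer G a) := Fintype.ofFinite _
        let ψ : G ⧸ stabilizer G a → Ω := fun c => ofQuotientStabilizer G a c
        have hinj : Function.Injective ψ := injective_ofQuotientStabilizer G a
        have hψ : ∀ (g : G) (c : G ⧸ stabilizer G a), ψ (g • c) = g • ψ c :=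
          fun g c => ofQuotientStabilizer_smul G a g c
        have himg : Finset.univ.image ψ = orbitIn G X a := by
          ext x
          rw [Finset.mem_image, mem_orbitIn]
          constructor
          · rintro ⟨c, -, rfl⟩
            obtain ⟨g, rfl⟩ := QuotientGroup.mk_surjective c
            exact ⟨hX g a ha, g, rfl⟩
          · rintro ⟨-, g, rfl⟩
            exact ⟨QuotientGroup.mk g, Finset.mem_univ _, rfl⟩
        have hfix : (fixSet (P : Subgroup G) (Finset.univ : Finset (G ⧸ stabilizer G a))).image ψ =
            fixSet (P : Subgroup G) (orbitIn G X a) := by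
          ext x
          rw [← himg, Finset.mem_image, mem_fixSet, Finset.mem_image]
          constructor
          · rintro ⟨c, hc, rfl⟩
            exact ⟨⟨c, Finset.mem_univ _, rfl⟩, fun g hg => by rw [← hψ, (mem_fixSet.mp hc).2 g hg]⟩
          · rintro ⟨⟨c, -, rfl⟩, h⟩
            exact ⟨c, mem_fixSet.mpr ⟨Finset.mem_univ _, fun g hg => hinj (by rw [hψ, h g hg])⟩, rfl⟩
        have hq : 1 < (Finset.univ : Finset (G ⧸ stabilizer G a)).card := by
          have := one_lt_card_orbitIn hX hn ha
          rwa [← himg, Finset.card_image_of_injective _ hinj] at this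
        have h := fine_all p _ G (G ⧸ stabilizer G a) hG Finset.univ (fun _ _ _ => Finset.mem_univ _)
          (fun x _ y _ => exists_smul_eq G x y) hq (Nat.lt_succ_self _) P
        rw [defect] at h ⊢
        rwa [← hfix, ← himg, Finset.card_image_of_injective _ hinj, Finset.card_image_of_injective _ hinj]
      have h2 : 0 ≤ defect p (P : Subgroup G) (X \ orbitIn G X a) :=
        ih _ (Finset.sdiff_ssubset hsub ⟨a, mem_orbitIn.mpr ⟨ha, 1, one_smul G a⟩⟩)
          (inv_sdiff hX (inv_orbitIn hX a)) (fun x hx => hn x (Finset.mem_sdiff.mp hx).1)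
      rw [e, defect_union _ Finset.disjoint_sdiff]
      linarith

theorem le_of_nonneg {p : ℕ} [Fact p.Prime] {G : Type u} [Group G] {Ω : Type v} [MulAction G Ω]
    (P : Subgroup G) (X : Finset Ω) (h : 0 ≤ defect p P X) :
    (2 * p - 1) * (fixSet P X).card ≤ (p - 1) * X.card := by
  rw [defect] at h
  have hp := (Fact.out : p.Prime).two_le
  zify [show 1 ≤ 2 * p by omega, show 1 ≤ p by omega]
  linarith

end Cfsg.Agent.Lib.SylowFix
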